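import Mathlib
import Groth.Agent.LC16.SopRegular
import Groth.Agent.CAlg5.WeakAss

set_option autoImplicit false

open IsLocalRing RingTheory.Sequence
open scoped Pointwise

namespace Groth.Agent.Sop14

universe u

variable {A : Type u} [CommRing A] [IsNoetherianRing A] [IsLocalRing A]

theorem dim_sup_span_singleton (J : Ideal A) (hJ : J ≠ ⊤) {x : A} (hx : x ∈ maximalIdeal A)
    (hn : ∀ q ∈ J.minimalPrimes, x ∉ q) :
    ringKrullDim (A ⧸ (J ⊔ Ideal.span {x})) + 1 = ringKrullDim (A ⧸ J) := by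
  have : Nontrivial (A ⧸ J) := Ideal.Quotient.nontrivial_iff.2 hJ
  have : IsLocalRing (A ⧸ J) := .of_surjective' _ Ideal.Quotient.mk_surjective
  let q := Ideal.Quotient.mk J
  have : IsLocalHom q := .of_surjective q Ideal.Quotient.mk_surjective
  have hqx : q x ∈ maximalIdeal (A ⧸ J) := fun h =>
    hx (isUnit_of_map_unit q x h)
  have h := Module.supportDim_quotSMulTop_succ_eq_of_notMem_minimalPrimes_of_mem_maximalIdeal
    (M := A ⧸ J) (R := A ⧸ J) (x := q x) ?_ hqx
  · rw [Module.supportDim_self_eq_ringKrullDim] at h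
    rw [← h]
    congr 1
    have heq : (q x) • (⊤ : Ideal (A ⧸ J)) = Ideal.span {q x} := by
      simp [← Submodule.ideal_span_singleton_smul]
    change _ = Module.supportDim (A ⧸ J) ((A ⧸ J) ⧸ (q x) • (⊤ : Ideal (A ⧸ J)))
    rw [Module.supportDim_quotient_eq_ringKrullDim, heq,
      show Ideal.span {q x} = (Ideal.span {x}).map q by rw [Ideal.map_span, Set.image_singleton]]
    exact (ringKrullDim_eq_of_ringEquiv (DoubleQuot.quotQuotEquivQuotSup J (Ideal.span {x}))).symm
  · intro P hP hxP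
    rw [Module.annihilator_eq_bot.2 inferInstance] at hP
    refine hn (P.comap q) ?_ hxP
    rw [Ideal.minimalPrimes_eq_comap]
    exact ⟨P, hP, rfl⟩

/-- Prime avoidance inside a coset. -/
theorem exists_add_notMem (p : Ideal A) [p.IsPrime] (J : Ideal A)
    (K : Ideal A) (hK : ∀ r, r ∈ K ↔ ∃ c ∉ p, c * r ∈ J)
    (y : A) (hy : ∀ q ∈ J.minimalPrimes, q ≤ p → y ∉ q) :
    ∃ z ∈ K, ∀ q ∈ J.minimalPrimes, y + z ∉ q := by
  classical
  have hJK : J ≤ K := fun r hr => (hK r).2 ⟨1, fun h => ‹p.IsPrime›.ne_top ((Ideal.eq_top_iff_one p).2 h), by rwa [one_mul]⟩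
  set Q : Finset (Ideal A) := (Ideal.finite_minimalPrimes_of_isNoetherianRing A J).toFinset.filter (fun q => ¬ q ≤ p) with hQ
  have hmin : ∀ q ∈ Q, q ∈ J.minimalPrimes := fun q hq => by simpa [hQ] using (Finset.mem_filter.1 hq).1
  have hnp : ∀ q ∈ Q, ¬ q ≤ p := fun q hq => (Finset.mem_filter.1 hq).2
  have hex : ∀ q ∈ Q, ∃ a, a ∉ q ∧ a ∈ K ∧ ∀ q' ∈ Q, q' ≠ q → a ∈ q' := by
    intro q hq
    have hqp : q.IsPrime := (hmin q hq).1.1
    obtain ⟨r, hr, hrp⟩ := SetLike.not_le_iff_exists.1 (hnp q hq)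
    obtain ⟨s, hs, n, hn⟩ := (CAlg5.mem_minimalPrimes_iff_mul_pow (I := J) (p := q)).1 (hmin q hq) |>.2 r hr
    have hnot : ¬ (Q.erase q).inf id ≤ q := by
      intro hle
      obtain ⟨q', hq', hle'⟩ := hqp.inf_le'.1 hle
      obtain ⟨hne, hq'Q⟩ := Finset.mem_erase.1 hq'
      exact hne (le_antisymm hle' ((hmin q hq).2 (hmin q' hq'Q).1 hle'))
    obtain ⟨w, hw, hwq⟩ := SetLike.not_le_iff_exists.1 hnot
    refine ⟨s * w, hqp.mul_notMem hs hwq, ?_, fun q' hq' hne => ?_⟩
    · exact Ideal.mul_mem_right _ _ ((hK s).2 ⟨r ^ n, fun h => hrp (‹p.IsPrime›.mem_of_pow_mem n h), by rwa [mul_comm]⟩)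
    · exact Ideal.mul_mem_left _ _ ((Finset.inf_le (f := id) (Finset.mem_erase.2 ⟨hne, hq'⟩)) hw)
  choose a ha haK hmem using hex
  refine ⟨∑ q ∈ Q.attach, if y ∈ q.1 then a q.1 q.2 else 0, sum_mem fun q _ => ?_, ?_⟩
  · split_ifs
    · exact haK q.1 q.2
    · exact zero_mem _
  intro q hq hx'
  by_cases hqp : q ≤ p
  · have hzq : (∑ c ∈ Q.attach, if y ∈ c.1 then a c.1 c.2 else 0) ∈ q := by
      refine sum_mem fun c _ => ?_
      split_ifs
      · obtain ⟨d, hd, hd'⟩ := (hK _).1 (haK c.1 c.2)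
        exact (hq.1.1.mem_or_mem (hq.1.2 hd')).resolve_left fun h => hd (hqp h)
      · exact zero_mem _
    exact hy q hq hqp ((Ideal.add_mem_iff_left _ hzq).1 hx')
  have hqQ : q ∈ Q := by simp [hQ, hq, hqp]
  rw [← Finset.add_sum_erase _ _ (Finset.mem_attach Q ⟨q, hqQ⟩)] at hx'
  have hrest : (∑ c ∈ Q.attach.erase ⟨q, hqQ⟩, if y ∈ c.1 then a c.1 c.2 else 0) ∈ q := by
    refine sum_mem fun c hc => ?_
    split_ifs
    · exact hmem c.1 c.2 q hqQ fun h => (Finset.mem_erase.1 hc).1 (Subtype.ext h.symm)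
    · exact zero_mem _
  rw [← add_assoc, Ideal.add_mem_iff_left _ hrest] at hx'
  by_cases hxq : y ∈ q
  · rw [if_pos hxq, Ideal.add_mem_iff_right _ hxq] at hx'
    exact ha q hqQ hx'
  · rw [if_neg hxq, add_zero] at hx'
    exact hxq hx'

theorem sop_regular_step {R : Type u} [CommRing R] [IsNoetherianRing R] [IsLocalRing R]
    [LocCoh.IsCohenMacaulayLocalRing R] {s : ℕ} (hs : ringKrullDim R = s) (t : Fin s → R)
    (ht : ∀ i, t i ∈ maximalIdeal R) (hsop : ringKrullDim (R ⧸ Ideal.span (Set.range t)) = 0) (i : Fin s) {z : R}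
    (hz : t i * z ∈ Ideal.span (t '' {j | j < i})) : z ∈ Ideal.span (t '' {j | j < i}) := by
  classical
  have hne : Ideal.span (Set.range t) ≠ ⊤ := fun h =>
    (maximalIdeal.isMaximal R).ne_top (top_le_iff.1 (h ▸ Ideal.span_le.2 (Set.range_subset_iff.2 ht)))
  have hrad : maximalIdeal R ≤ (Ideal.span (Set.range t)).radical := by
    rw [Ideal.radical_eq_sInf]
    refine le_sInf fun P hP => ?_
    obtain ⟨hle, hPp⟩ := hP
    by_contra hnot
    have hlt : P < maximalIdeal R := lt_of_le_of_ne (le_maximalIdeal hPp.ne_top) fun h => hnot h.ge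
    have : Ring.KrullDimLE 0 (R ⧸ Ideal.span (Set.range t)) := by
      rw [Ring.KrullDimLE, Order.krullDimLE_iff]; exact hsop.le
    have hmap : ((P.map (Ideal.Quotient.mk (Ideal.span (Set.range t))))).IsPrime :=
      Ideal.map_isPrime_of_surjective Ideal.Quotient.mk_surjective (by rwa [Ideal.mk_ker])
    have hcom : (P.map (Ideal.Quotient.mk (Ideal.span (Set.range t)))).comap (Ideal.Quotient.mk _) = P := by
      rw [Ideal.comap_map_of_surjective _ Ideal.Quotient.mk_surjective, ← RingHom.ker_eq_comap_bot, Ideal.mk_ker]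
      exact sup_eq_left.2 hle
    have hmax := Ideal.IsPrime.isMaximal' (I := P.map (Ideal.Quotient.mk (Ideal.span (Set.range t))))
    have := Ideal.comap_isMaximal_of_surjective (Ideal.Quotient.mk (Ideal.span (Set.range t))) Ideal.Quotient.mk_surjective
      (K := P.map (Ideal.Quotient.mk (Ideal.span (Set.range t))))
    rw [hcom] at this
    exact hlt.ne (IsLocalRing.eq_maximalIdeal this)
  obtain ⟨rs, hlen, hrm, hrs⟩ := LC16.exists_isRegular_of_CM hs
  have hreg : IsWeaklyRegular R (List.ofFn t) := by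
    refine LC16.isWeaklyRegular_of_le_radical rs _ hrs hrm (by simp [hlen]) (fun b hb => ?_) ?_
    · obtain ⟨j, rfl⟩ := (List.mem_ofFn' t _).1 hb
      exact ht j
    · refine hrad.trans (Ideal.radical_mono (le_trans (Ideal.span_le.2 ?_) le_sup_right))
      rintro _ ⟨j, rfl⟩
      exact Ideal.subset_span ((List.mem_ofFn' t _).2 ⟨j, rfl⟩)
  have hlt : (i : ℕ) < (List.ofFn t).length := by simp
  rw [← List.take_append_drop i.val (List.ofFn t), List.drop_eq_getElem_cons hlt, List.getElem_ofFn,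
    isWeaklyRegular_append_iff, isWeaklyRegular_cons_iff] at hreg
  have hspan : Ideal.ofList ((List.ofFn t).take i) = Ideal.span (t '' {j | j < i}) := by
    refine congrArg Ideal.span (Set.ext fun x => ?_)
    simp only [Set.mem_setOf_eq, List.mem_take_iff_getElem, List.getElem_ofFn, Set.mem_image]
    constructor
    · rintro ⟨j, hj, rfl⟩
      exact ⟨⟨j, by simp at hj; omega⟩, by simp at hj; exact hj, rfl⟩
    · rintro ⟨j, hj, rfl⟩
      exact ⟨j.1, by simp; omega, rfl⟩
  rw [← hspan] at hz ⊢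
  have h := hreg.2.1.right_eq_zero_of_smul (x := Submodule.Quotient.mk z) (by
    rw [← Submodule.Quotient.mk_smul, Submodule.Quotient.mk_eq_zero, smul_eq_mul, smul_eq_mul, Ideal.mul_top]
    exact hz)
  rwa [Submodule.Quotient.mk_eq_zero, smul_eq_mul, Ideal.mul_top] at h

theorem exists_lift_sop (p : Ideal A) [p.IsPrime]
    [LocCoh.IsCohenMacaulayLocalRing (Localization.AtPrime p)] (s : ℕ)
    (hs : ringKrullDim (Localization.AtPrime p) = s) (t : Fin s → Localization.AtPrime p)
    (ht : ∀ i, t i ∈ maximalIdeal (Localization.AtPrime p))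
    (hsop : ringKrullDim (Localization.AtPrime p ⧸ Ideal.span (Set.range t)) = 0) :
    ∃ x a : Fin s → A, (∀ i, x i ∈ p) ∧ (∀ i, a i ∉ p) ∧
      ringKrullDim (A ⧸ Ideal.span (Set.range x)) + (s : WithBot ℕ∞) = ringKrullDim A ∧
      ∀ i : Fin s, algebraMap A (Localization.AtPrime p) (x i) -
          algebraMap A (Localization.AtPrime p) (a i) * t i ∈
        Ideal.span (t '' {j : Fin s | j < i}) := by
  classical
  let L := Localization.AtPrime p
  let φ := algebraMap A L
  suffices H : ∀ n (hn : n ≤ s), ∃ x a : Fin n → A, (∀ i, x i ∈ p) ∧ (∀ i, a i ∉ p) ∧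
      ringKrullDim (A ⧸ Ideal.span (Set.range x)) + (n : WithBot ℕ∞) = ringKrullDim A ∧
      (∀ i : Fin n, φ (x i) - φ (a i) * t (i.castLE hn) ∈ Ideal.span (t '' {j : Fin s | j < i.castLE hn})) ∧
      (Ideal.span (Set.range x)).map φ = Ideal.span (t '' {j : Fin s | (j : ℕ) < n}) by
    obtain ⟨x, a, h1, h2, h3, h4, -⟩ := H s le_rfl
    exact ⟨x, a, h1, h2, h3, fun i => by simpa using h4 i⟩
  intro n
  induction n with
  | zero =>
    intro _
    refine ⟨Fin.elim0, Fin.elim0, fun i => i.elim0, fun i => i.elim0, ?_, fun i => i.elim0, ?_⟩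
    · rw [Set.range_eq_empty, Ideal.span_empty, Nat.cast_zero, add_zero]
      exact ringKrullDim_eq_of_ringEquiv (RingEquiv.quotientBot A)
    · rw [Set.range_eq_empty, Ideal.span_empty, Ideal.map_bot]
      have : ({j : Fin s | (j : ℕ) < 0} : Set (Fin s)) = ∅ := by ext; simp
      rw [this, Set.image_empty, Ideal.span_empty]
  | succ n ih =>
    intro hn
    obtain ⟨x, a, hx, ha, hdim, hcong, hmap⟩ := ih (by omega)
    let i₀ : Fin s := ⟨n, hn⟩
    let J := Ideal.span (Set.range x)
    let T : Ideal L := Ideal.span (t '' {j : Fin s | (j : ℕ) < n})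
    have hJp : J ≤ p := Ideal.span_le.2 (Set.range_subset_iff.2 hx)
    obtain ⟨⟨y, c⟩, hyc⟩ := IsLocalization.surj p.primeCompl (t i₀)
    have hcu : IsUnit (φ c) := IsLocalization.map_units L c
    have hyp : y ∈ p := by
      by_contra h
      have hu : IsUnit (φ y) := IsLocalization.map_units L (⟨y, h⟩ : p.primeCompl)
      rw [show φ y = t i₀ * φ c from hyc.symm] at hu
      exact ht i₀ (isUnit_of_mul_isUnit_left hu)
    have hset : {j : Fin s | j < i₀} = {j : Fin s | (j : ℕ) < n} := rfl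
    have hTm : T ≤ maximalIdeal L := Ideal.span_le.2 (by rintro _ ⟨j, -, rfl⟩; exact ht j)
    let K := T.comap φ
    have hK : ∀ r, r ∈ K ↔ ∃ c ∉ p, c * r ∈ J := by
      intro r
      rw [Ideal.mem_comap, show T = J.map φ from hmap.symm, IsLocalization.algebraMap_mem_map_algebraMap_iff p.primeCompl]
      constructor
      · rintro ⟨m, hm, hm'⟩
        exact ⟨m, hm, hm'⟩
      · rintro ⟨m, hm, hm'⟩
        exact ⟨m, hm, hm'⟩
    have hy : ∀ q ∈ J.minimalPrimes, q ≤ p → y ∉ q := by
      intro q hq hqp hyq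
      have hqprime : q.IsPrime := hq.1.1
      have hdis : Disjoint (p.primeCompl : Set A) (q : Set A) :=
        Set.disjoint_left.2 fun r hr hrq => hr (hqp hrq)
      have hqL : q.map φ ∈ T.minimalPrimes := by
        rw [show T = J.map φ from hmap.symm, IsLocalization.minimalPrimes_map p.primeCompl L J, Set.mem_preimage,
          IsLocalization.comap_map_of_isPrime_disjoint p.primeCompl L hqprime hdis]
        exact hq
      have hti : t i₀ ∈ q.map φ := by
        have : t i₀ * φ c ∈ q.map φ := hyc ▸ Ideal.mem_map_of_mem φ hyq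
        exact (Ideal.mul_unit_mem_iff_mem _ hcu).1 this
      obtain ⟨w, hw, hw'⟩ := Ideal.exists_mul_mem_of_mem_minimalPrimes hqL hti
      exact hw (sop_regular_step hs t ht hsop i₀ hw')
    obtain ⟨z, hz, hnot⟩ := exists_add_notMem p J K hK y hy
    have hzp : z ∈ p := by
      obtain ⟨d, hd, hd'⟩ := (hK z).1 hz
      exact (‹p.IsPrime›.mem_or_mem (hJp hd')).resolve_left hd
    have hcong' : φ (y + z) - φ c * t i₀ ∈ T := by
      rw [map_add, show φ y = t i₀ * φ c from hyc.symm, show t i₀ * φ c + φ z - φ c * t i₀ = φ z by ring]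
      exact hz
    refine ⟨Fin.snoc x (y + z), Fin.snoc a (c : A), ?_, ?_, ?_, ?_, ?_⟩
    · intro i
      induction i using Fin.lastCases with
      | last => simpa using p.add_mem hyp hzp
      | cast i => simpa using hx i
    · intro i
      induction i using Fin.lastCases with
      | last => rw [Fin.snoc_last]; exact c.2
      | cast i => rw [Fin.snoc_castSucc]; exact ha i
    · rw [show Ideal.span (Set.range (Fin.snoc x (y + z) : Fin (n + 1) → A)) = J ⊔ Ideal.span {y + z} by
        rw [Fin.range_snoc, Ideal.span_insert, sup_comm]]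
      rw [← hdim, ← dim_sup_span_singleton J (ne_top_of_le_ne_top ‹p.IsPrime›.ne_top hJp)
        (le_maximalIdeal ‹p.IsPrime›.ne_top (p.add_mem hyp hzp)) hnot, Nat.cast_succ, add_assoc, add_comm (1 : WithBot ℕ∞)]
    · intro i
      induction i using Fin.lastCases with
      | last =>
        simp only [Fin.snoc_last]
        exact hcong'
      | cast i =>
        simp only [Fin.snoc_castSucc]
        exact hcong i
    · rw [Fin.range_snoc, Ideal.span_insert, Ideal.map_sup, hmap, Ideal.map_span, Set.image_singleton]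
      have : {j : Fin s | (j : ℕ) < n + 1} = insert i₀ {j : Fin s | (j : ℕ) < n} := by
        ext j
        simp [i₀, Fin.ext_iff]
        omega
      rw [this, Set.image_insert_eq, Ideal.span_insert]
      refine le_antisymm (sup_le ?_ le_sup_right) (sup_le ?_ le_sup_right)
      · rw [Ideal.span_singleton_le_iff_mem, show φ (y + z) = φ c * t i₀ + (φ (y + z) - φ c * t i₀) by ring]
        exact add_mem (Ideal.mem_sup_left (Ideal.mul_mem_left _ _ (Ideal.mem_span_singleton_self _))) (Ideal.mem_sup_right hcong')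
      · rw [Ideal.span_singleton_le_iff_mem, ← Ideal.unit_mul_mem_iff_mem _ hcu,
          show φ c * t i₀ = φ (y + z) - (φ (y + z) - φ c * t i₀) by ring]
        exact sub_mem (Ideal.mem_sup_left (Ideal.mem_span_singleton_self _)) (Ideal.mem_sup_right hcong')

end Groth.Agent.Sop14
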